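import Mathlib

/-!
# S4791 + S4927: the inequality K9 for the classical rows (helper842, after helper443)

`R ≥ e + 1` orbits of length one, the other orbits of length `≤ f`; `x = x₀(A) ≥ f + κ - 1`.
-/

set_option autoImplicit false

namespace Cfsg.Agent.H842.XC

/-- `4 C(κ+t-1, t) ≥ t κ (κ+1)` -/
theorem choose_ge_mul {κ : ℕ} (hκ : 3 ≤ κ) : ∀ t : ℕ, 2 ≤ t → t * (κ * (κ + 1)) ≤ 4 * (κ + t - 1).choose t := by
  intro t ht
  induction t, ht using Nat.le_induction with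
  | base =>
    obtain ⟨k, rfl⟩ : ∃ k, κ = k + 1 := ⟨κ - 1, by omega⟩
    have h1 := Nat.triangle_succ (k + 1)
    rw [show k + 1 + 2 - 1 = k + 2 by omega]
    have h2 : 2 * (k + 2).choose 2 = (k + 2) * (k + 1) := by
      have := Nat.add_one_mul_choose_eq (k + 1) 1
      rw [Nat.choose_one_right] at this
      change (k + 2) * (k + 1) = (k + 2).choose 2 * 2 at this
      linarith
    nlinarith
  | succ t ht ih =>
    have h1 := Nat.add_one_mul_choose_eq (κ + t - 1) t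
    have e1 : κ + t - 1 + 1 = κ + t := by omega
    have e2 : κ + (t + 1) - 1 = κ + t := by omega
    rw [e1] at h1
    rw [e2]
    change (κ + t) * (κ + t - 1).choose t = (κ + t).choose (t + 1) * (t + 1) at h1
    have h3 : (t + 1) * (t + 1) ≤ t * (κ + t) := by nlinarith
    have h4 : (t + 1) * ((t + 1) * (κ * (κ + 1))) ≤ (t + 1) * (4 * (κ + t).choose (t + 1)) := by
      calc (t + 1) * ((t + 1) * (κ * (κ + 1))) = (t + 1) * (t + 1) * (κ * (κ + 1)) := by ring
        _ ≤ t * (κ + t) * (κ * (κ + 1)) := Nat.mul_le_mul_right _ h3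
        _ = (κ + t) * (t * (κ * (κ + 1))) := by ring
        _ ≤ (κ + t) * (4 * (κ + t - 1).choose t) := Nat.mul_le_mul_left _ ih
        _ = 4 * ((κ + t) * (κ + t - 1).choose t) := by ring
        _ = 4 * ((κ + t).choose (t + 1) * (t + 1)) := by rw [h1]
        _ = _ := by ring
    exact Nat.le_of_mul_le_mul_left h4 (by omega)

/-- `4 h (c - 1) ≥ c²`, `h = (c+1)/2`, strict for `c ≥ 3` -/
theorem half_ge {c : ℕ} (hc : 2 ≤ c) : c ^ 2 ≤ 4 * ((c + 1) / 2 * (c - 1)) ∧ (3 ≤ c → c ^ 2 < 4 * ((c + 1) / 2 * (c - 1))) := by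
  rcases Nat.even_or_odd' c with ⟨k, rfl | rfl⟩
  · obtain ⟨j, rfl⟩ : ∃ j, k = j + 1 := ⟨k - 1, by omega⟩
    have e1 : (2 * (j + 1) + 1) / 2 = j + 1 := by omega
    have e2 : 2 * (j + 1) - 1 = 2 * j + 1 := by omega
    rw [e1, e2]
    constructor
    · nlinarith
    · intro h
      have : 1 ≤ j := by omega
      nlinarith
  · have e1 : (2 * k + 1 + 1) / 2 = k + 1 := by omega
    have e2 : 2 * k + 1 - 1 = 2 * k := by omega
    rw [e1, e2]
    have : 1 ≤ k := by omega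
    constructor
    · nlinarith
    · intro _
      nlinarith

/-- one component -/
theorem one_num {e c f ν n : ℕ} (he : 3 ≤ e) (hf : 1 ≤ f) (hν : (c + 1) / 2 * (c - 1) ≤ f * ν) (hn : f + e + ν ≤ n) :
    4 * (e * c) < n ^ 2 := by
  have h0 : (f + e + ν) ^ 2 ≤ n ^ 2 := Nat.pow_le_pow_left hn 2
  refine lt_of_lt_of_le ?_ h0
  rcases Nat.lt_or_ge c 2 with hc | hc
  · have hc' : c ≤ 1 := by omega
    have h1 : 4 * (e * c) ≤ 4 * e := by nlinarith
    nlinarith
  · obtain ⟨h1, h2⟩ := half_ge hc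
    have h3 : 4 * (f * ν) ≤ (f + ν) ^ 2 := by nlinarith [four_mul_le_pow_two_add f ν]
    have h4 : c ≤ f + ν := by
      have : c ^ 2 ≤ (f + ν) ^ 2 := by omega
      exact (Nat.pow_le_pow_iff_left (by norm_num)).1 this
    rcases Nat.lt_or_ge c 3 with h5 | h5
    · have : c = 2 := by omega
      subst this
      nlinarith
    · have h6 : c < f + ν := by
        have : c ^ 2 < (f + ν) ^ 2 := by
          have := h2 h5
          omega
        exact lt_of_pow_lt_pow_left₀ 2 (by omega) this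
      have h7 : (c + 1 + e) ^ 2 ≤ (f + e + ν) ^ 2 := Nat.pow_le_pow_left (by omega) 2
      have h8 := four_mul_le_pow_two_add e c
      nlinarith

/-- at least two components -/
theorem two_num {e c κ f ν n t g C : ℕ} (he : 3 ≤ e) (hκ : e + 1 + ν ≤ κ) (hf : 1 ≤ f)
    (hν : (c + 1) / 2 * (c - 1) ≤ f * ν) (ht : 2 ≤ t) (hg : f ≤ t * g) (hC : t * (κ * (κ + 1)) ≤ 4 * C)
    (hn : C + g ≤ n + 1) : 4 * (e * c) < n ^ 2 := by
  have hg1 : 1 ≤ g := by
    rcases Nat.eq_zero_or_pos g with rfl | h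
    · omega
    · exact h
  rcases Nat.lt_or_ge c 5 with hc | hc
  · have h1 : 2 * (κ * (κ + 1)) ≤ 4 * C := le_trans (Nat.mul_le_mul_right _ ht) hC
    have h2 : (e + 1) * (e + 2) ≤ κ * (κ + 1) := Nat.mul_le_mul (by omega) (by omega)
    have h3 : (e + 1) * (e + 2) ≤ 2 * n := by omega
    have h4 : ((e + 1) * (e + 2)) ^ 2 ≤ (2 * n) ^ 2 := Nat.pow_le_pow_left h3 2
    have h5 : 4 * (e * c) ≤ 16 * e := by nlinarith
    have h6 : 64 * e < ((e + 1) * (e + 2)) ^ 2 := by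
      have h7 : 16 ≤ (e + 1) ^ 2 := by nlinarith
      have h8 : 4 * e < (e + 2) ^ 2 := by nlinarith
      calc 64 * e = 16 * (4 * e) := by ring
        _ < 16 * (e + 2) ^ 2 := by omega
        _ ≤ (e + 1) ^ 2 * (e + 2) ^ 2 := Nat.mul_le_mul_right _ h7
        _ = _ := by ring
    have h9 : (2 * n) ^ 2 = 4 * n ^ 2 := by ring
    omega
  · have h1 : f * (κ * (κ + 1)) ≤ (n + 1) ^ 2 := by
      calc f * (κ * (κ + 1)) ≤ t * g * (κ * (κ + 1)) := Nat.mul_le_mul_right _ hg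
        _ = g * (t * (κ * (κ + 1))) := by ring
        _ ≤ g * (4 * C) := Nat.mul_le_mul_left _ hC
        _ = 4 * (C * g) := by ring
        _ ≤ (C + g) ^ 2 := by nlinarith [four_mul_le_pow_two_add C g]
        _ ≤ _ := Nat.pow_le_pow_left hn 2
    have h2 : (e + 1 + ν) * (e + 2 + ν) ≤ κ * (κ + 1) := Nat.mul_le_mul (by omega) (by omega)
    have h3 : (2 * e + 3) * (f * ν) + (e + 1) * (e + 2) ≤ f * (κ * (κ + 1)) := by
      calc (2 * e + 3) * (f * ν) + (e + 1) * (e + 2) ≤ (2 * e + 3) * (f * ν) + f * ((e + 1) * (e + 2)) + f * (ν * ν) := by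
            have := Nat.le_mul_of_pos_left ((e + 1) * (e + 2)) (show 0 < f by omega)
            omega
        _ = f * ((e + 1 + ν) * (e + 2 + ν)) := by ring
        _ ≤ _ := Nat.mul_le_mul_left _ h2
    have h4 : 2 * c ≤ (c + 1) / 2 * (c - 1) := by
      obtain ⟨j, rfl⟩ : ∃ j, c = j + 5 := ⟨c - 5, by omega⟩
      have e2 : j + 5 - 1 = j + 4 := by omega
      rw [e2]
      have h5 : j + 5 ≤ 2 * ((j + 5 + 1) / 2) := by omega
      nlinarith
    have h5 : (2 * e + 3) * (2 * c) ≤ (2 * e + 3) * (f * ν) := Nat.mul_le_mul_left _ (h4.trans hν)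
    by_contra hcon
    push Not at hcon
    have h6 : 4 * (e * c) ≤ (e + c) ^ 2 := by nlinarith [four_mul_le_pow_two_add e c]
    have h7 : n ≤ e + c := (Nat.pow_le_pow_iff_left (by norm_num)).1 (hcon.trans h6)
    nlinarith

/-- **K9**: `κ ≥ R + ν`, `R ≥ e + 1`, `f ν ≥ h (c - 1)` with `h = (c + 1) / 2`, `x ≥ f + κ - 1` -/
theorem inv_num {e c R κ f ν x n t g : ℕ} (he : 3 ≤ e) (hR : e + 1 ≤ R) (hκ : R + ν ≤ κ) (hf : 1 ≤ f)
    (hν : (c + 1) / 2 * (c - 1) ≤ f * ν) (hx : f + κ ≤ x + 1) (ht : 1 ≤ t) (hg : f ≤ t * g)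
    (hn : x + (κ + t - 1).choose t + g ≤ n + f + κ) : 4 * (e * c) < n ^ 2 := by
  rcases Nat.lt_or_ge t 2 with h2 | h2
  · have : t = 1 := by omega
    subst this
    rw [Nat.choose_one_right] at hn
    exact one_num he hf hν (by omega)
  · exact two_num (C := (κ + t - 1).choose t) he (by omega) hf hν h2 hg (choose_ge_mul (by omega) t h2) (by omega)

end Cfsg.Agent.H842.XC
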