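import Cfsg.Agent.H668.XZ.Fam
import Cfsg.Agent.H842.XC.Num

/-!
# S4791 + S4927: the classical rows from invariant members of `X0(S)` only (K9; helper842, after helper443)

* `kap_of_inv` : `R` invariant members of `X0(T)`: `kap0 = R + ν` with `x0(T) ≤ |A : hull| ν + R`.
* `row0_of_inv` : the row; `row0_of_fam_inv` : the same from `H443.XC.Fam p M S R`.
-/

set_option autoImplicit false
set_option linter.unusedSectionVars false

open Cfsg Subgroup Cfsg.Agent.H508.KB Cfsg.Agent.H674.XZ Cfsg.Agent.H668.XZ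
open Cfsg.Agent.Characters.Core
open Cfsg.Agent.Blocks.Local
open scoped ComplexConjugate

namespace Cfsg.Agent.H842.XC

universe u

variable {p : ℕ} [hp : Fact p.Prime] {M : Ideal AlgInt}

section count

variable {A : Type u} [Group A] [Finite A] (T : Subgroup A) [T.Normal]

/-- `R` orbits of length one -/
theorem kap_of_inv (hM : IsPModular p M) (hcop : ¬ p ∣ T.index) {R : ℕ} (θ : Fin R → IrrCharacter T)
    (hθ : Function.Injective θ) (h0 : ∀ i, Mem0 p M (θ i))
    (hinv : ∀ i (a : A) (s : T), (θ i : T → ℂ) (MulAut.conjNormal a s) = (θ i : T → ℂ) s) :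
    ∃ ν, R + ν = kap0 p M T ∧ x0 p M T ≤ (hull p T).index * ν + R := by
  classical
  let : Fintype T := Fintype.ofFinite _
  have hfin3 : Finite (Quotient (orbSetoid0 p M T)) := finite_quot0 T
  have hfin4 : Finite {χ : IrrCharacter T // Mem0 p M χ} := finite_mem0
  let q : Fin R → Quotient (orbSetoid0 p M T) := fun i => Quotient.mk (orbSetoid0 p M T) ⟨θ i, h0 i⟩
  have hsing : ∀ (i : Fin R) (y : {χ : IrrCharacter T // Mem0 p M χ}), (orbSetoid0 p M T) ⟨θ i, h0 i⟩ y →
      y = ⟨θ i, h0 i⟩ := by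
    rintro i y ⟨a, ha⟩
    apply Subtype.ext
    apply Subtype.ext
    funext s
    rw [ha s]
    exact hinv i a s
  have hq : Function.Injective q := by
    intro i j hij
    have h1 := Quotient.exact hij
    have h2 := hsing i _ h1
    exact (hθ (congrArg (fun x : {χ : IrrCharacter T // Mem0 p M χ} => x.1) h2)).symm
  let Q₀ : Finset (Quotient (orbSetoid0 p M T)) := Finset.univ.image q
  have hQ : Q₀.card = R := by
    rw [Finset.card_image_of_injective _ hq, Finset.card_univ, Fintype.card_fin]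
  have h2 := H426.KB.card_le_of_classes (orbSetoid0 p M T) (hull p T).index (card_orbit_le0 T hM hcop) Q₀ (by
    intro y hy
    obtain ⟨i, -, rfl⟩ := Finset.mem_image.1 hy
    exact ⟨⟨θ i, h0 i⟩, rfl, fun y hy => hsing i y hy⟩)
  have h3 : Q₀.card ≤ kap0 p M T := by
    have := Fintype.ofFinite (Quotient (orbSetoid0 p M T))
    unfold kap0
    rw [Nat.card_eq_fintype_card]
    exact Finset.card_le_univ _
  rw [hQ] at h2 h3
  exact ⟨kap0 p M T - R, by omega, h2⟩

end count

/-- **K9**: `e c = p - 1`, `R ≥ e + 1` members of `X0(S)` invariant under all automorphisms (in `A`), and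
`x0(S) ≥ R + h (c - 1)` with `h = (c + 1) / 2`: no extension theorem is needed. -/
theorem row0_of_inv (hM : IsPModular p M) {S : Type u} [Group S] [Finite S] (hab : AbOut p S) {e c R : ℕ} (hec : e * c = p - 1) (he : 3 ≤ e) (hR : e + 1 ≤ R)
    (hx : R + (c + 1) / 2 * (c - 1) ≤ x0 p M S)
    (h : ∀ (A : Type u) [Group A] [Finite A] (T : Subgroup A) [T.Normal], (S ≃* ↥T) →
      centralizer (T : Set A) = ⊥ → ¬ p ∣ T.index →
      ∃ θ : Fin R → IrrCharacter T, Function.Injective θ ∧ (∀ i, Mem0 p M (θ i)) ∧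
        ∀ i (a : A) (s : T), (θ i : T → ℂ) (MulAut.conjNormal a s) = (θ i : T → ℂ) s) : Row0 p M S := by
  intro A _ _ T _ ⟨e'⟩ hcen hcop t n ht hcnt
  have hcomm := comm_mem_hull T e' hab hcen hcop
  obtain ⟨θ, h1, h2, h3⟩ := h A T e' hcen hcop
  obtain ⟨ν, h4, h5⟩ := kap_of_inv T hM hcop θ h1 h2 h3
  have h6 := ker_add_kap_le0 T hM hcop
  have h7 := ker_eq_index T hM hcop hcomm
  have h8 : 1 ≤ (hull p T).index := Nat.pos_of_ne_zero index_ne_zero_of_finite
  obtain ⟨g, h9, h10⟩ := hcnt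
  rw [x0_congr e'] at hx
  rw [← hec]
  rw [h7] at h6 h9 h10
  exact inv_num he hR h4.le h8 (by omega) h6 ht h9 h10

/-- **K9** from families with invariant members -/
theorem row0_of_fam_inv (hM : IsPModular p M) {S : Type u} [Group S] [Finite S] (hab : AbOut p S) {e c R : ℕ} (hec : e * c = p - 1) (he : 3 ≤ e) (hR : e + 1 ≤ R)
    (hx : R + (c + 1) / 2 * (c - 1) ≤ x0 p M S) (h : H443.XC.Fam p M S R) : Row0 p M S := by
  obtain ⟨ψ, k, h⟩ := h
  have h1 : ∀ i, ∃ χ : IrrCharacter S, Mem0 p M χ ∧ ip (ψ i) (χ : S → ℂ) ≠ 0 := fun i =>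
    (h i).2.2.1.exists_mem0 (h i).2.2.2.1
  choose θ h2 h3 using h1
  have h4 : ∀ i, ∀ α : MulAut S, H443.XC.PrA p α → ∀ s, (θ i : S → ℂ) (α s) = (θ i : S → ℂ) s := fun i =>
    (h i).2.2.2.2.2 (θ i) (h2 i) (h3 i)
  refine row0_of_inv hM hab hec he hR hx fun A _ _ T _ e' _ hcop => ?_
  refine ⟨fun i => ⟨fun g => (θ i : S → ℂ) (e'.symm g), isIrr_comp e'.symm.toMonoidHom e'.symm.surjective (θ i).2⟩,
    ?_, fun i => mem0_comp e'.symm (h2 i), ?_⟩
  · intro i j hij
    by_contra hne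
    have h5 : θ i = θ j := by
      apply Subtype.ext
      funext s
      have h6 := congrFun (congrArg Subtype.val hij) (e' s)
      change (θ i : S → ℂ) (e'.symm (e' s)) = (θ j : S → ℂ) (e'.symm (e' s)) at h6
      rwa [e'.symm_apply_apply] at h6
    rcases disj_of_orth (h i).1 (h j).1 ((h i).2.2.2.2.1 j hne) (θ i) with h6 | h6
    · exact h3 i h6
    · exact h3 j (h5 ▸ h6)
  · intro i a s
    change (θ i : S → ℂ) (e'.symm (MulAut.conjNormal a s)) = (θ i : S → ℂ) (e'.symm s)
    have h6 := h4 i (autOf T e' a) (prA_of_conj T e' hcop a) (e'.symm s)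
    rw [autOf_apply, e'.apply_symm_apply] at h6
    exact h6

end Cfsg.Agent.H842.XC
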